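import Cfsg.Agent.Coset.ON.Out.Defs

set_option autoImplicit false
set_option maxRecDepth 100000
set_option Elab.async false

namespace CfsgLib.Coset.ON.Out

open CfsgLib.Coset

theorem centT_0 : belowBlock 11 122760 centT 0 = true := by decide +kernel
theorem centT_1 : belowBlock 11 122760 centT 1 = true := by decide +kernel
theorem centT_2 : belowBlock 11 122760 centT 2 = true := by decide +kernel
theorem centT_3 : belowBlock 11 122760 centT 3 = true := by decide +kernel
theorem centT_4 : belowBlock 11 122760 centT 4 = true := by decide +kernel
theorem centT_5 : belowBlock 11 122760 centT 5 = true := by decide +kernel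
theorem centT_6 : belowBlock 11 122760 centT 6 = true := by decide +kernel
theorem centT_7 : belowBlock 11 122760 centT 7 = true := by decide +kernel
theorem centT_8 : belowBlock 11 122760 centT 8 = true := by decide +kernel
theorem centT_9 : belowBlock 11 122760 centT 9 = true := by decide +kernel
theorem centT_10 : belowBlock 11 122760 centT 10 = true := by decide +kernel
theorem centT_11 : belowBlock 11 122760 centT 11 = true := by decide +kernel
theorem centT_12 : belowBlock 11 122760 centT 12 = true := by decide +kernel
theorem centT_13 : belowBlock 11 122760 centT 13 = true := by decide +kernel
theorem centT_14 : belowBlock 11 122760 centT 14 = true := by decide +kernel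

end CfsgLib.Coset.ON.Out
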