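import Cfsg.Agent.Coset.ON.Out.Defs

set_option autoImplicit false
set_option maxRecDepth 100000
set_option Elab.async false

namespace CfsgLib.Coset.ON.Out

open CfsgLib.Coset

theorem centT_15 : belowBlock 11 122760 centT 15 = true := by decide +kernel
theorem centT_16 : belowBlock 11 122760 centT 16 = true := by decide +kernel
theorem centT_17 : belowBlock 11 122760 centT 17 = true := by decide +kernel
theorem centT_18 : belowBlock 11 122760 centT 18 = true := by decide +kernel
theorem centT_19 : belowBlock 11 122760 centT 19 = true := by decide +kernel
theorem centT_20 : belowBlock 11 122760 centT 20 = true := by decide +kernel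
theorem centT_21 : belowBlock 11 122760 centT 21 = true := by decide +kernel
theorem centT_22 : belowBlock 11 122760 centT 22 = true := by decide +kernel
theorem centT_23 : belowBlock 11 122760 centT 23 = true := by decide +kernel
theorem centT_24 : belowBlock 11 122760 centT 24 = true := by decide +kernel
theorem centT_25 : belowBlock 11 122760 centT 25 = true := by decide +kernel
theorem centT_26 : belowBlock 11 122760 centT 26 = true := by decide +kernel
theorem centT_27 : belowBlock 11 122760 centT 27 = true := by decide +kernel
theorem centT_28 : belowBlock 11 122760 centT 28 = true := by decide +kernel
theorem centT_29 : belowBlock 11 122760 centT 29 = true := by decide +kernel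

end CfsgLib.Coset.ON.Out
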