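import Cfsg.Agent.Coset.ON.Out.Defs

set_option autoImplicit false
set_option maxRecDepth 100000
set_option Elab.async false

namespace CfsgLib.Coset.ON.Out

open CfsgLib.Coset

theorem centT_30 : belowBlock 11 122760 centT 30 = true := by decide +kernel
theorem centT_31 : belowBlock 11 122760 centT 31 = true := by decide +kernel
theorem centT_32 : belowBlock 11 122760 centT 32 = true := by decide +kernel
theorem centT_33 : belowBlock 11 122760 centT 33 = true := by decide +kernel
theorem centT_34 : belowBlock 11 122760 centT 34 = true := by decide +kernel
theorem centT_35 : belowBlock 11 122760 centT 35 = true := by decide +kernel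
theorem centT_36 : belowBlock 11 122760 centT 36 = true := by decide +kernel
theorem centT_37 : belowBlock 11 122760 centT 37 = true := by decide +kernel
theorem centT_38 : belowBlock 11 122760 centT 38 = true := by decide +kernel
theorem centT_39 : belowBlock 11 122760 centT 39 = true := by decide +kernel
theorem centT_40 : belowBlock 11 122760 centT 40 = true := by decide +kernel
theorem centT_41 : belowBlock 11 122760 centT 41 = true := by decide +kernel
theorem centT_42 : belowBlock 11 122760 centT 42 = true := by decide +kernel
theorem centT_43 : belowBlock 11 122760 centT 43 = true := by decide +kernel
theorem centT_44 : belowBlock 11 122760 centT 44 = true := by decide +kernel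

end CfsgLib.Coset.ON.Out
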