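import Cfsg.Agent.Coset.ON.Out.Defs

set_option autoImplicit false
set_option maxRecDepth 100000
set_option Elab.async false

namespace CfsgLib.Coset.ON.Out

open CfsgLib.Coset

theorem centT_45 : belowBlock 11 122760 centT 45 = true := by decide +kernel
theorem centT_46 : belowBlock 11 122760 centT 46 = true := by decide +kernel
theorem centT_47 : belowBlock 11 122760 centT 47 = true := by decide +kernel
theorem centT_48 : belowBlock 11 122760 centT 48 = true := by decide +kernel
theorem centT_49 : belowBlock 11 122760 centT 49 = true := by decide +kernel
theorem centT_50 : belowBlock 11 122760 centT 50 = true := by decide +kernel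
theorem centT_51 : belowBlock 11 122760 centT 51 = true := by decide +kernel
theorem centT_52 : belowBlock 11 122760 centT 52 = true := by decide +kernel
theorem centT_53 : belowBlock 11 122760 centT 53 = true := by decide +kernel
theorem centT_54 : belowBlock 11 122760 centT 54 = true := by decide +kernel
theorem centT_55 : belowBlock 11 122760 centT 55 = true := by decide +kernel
theorem centT_56 : belowBlock 11 122760 centT 56 = true := by decide +kernel
theorem centT_57 : belowBlock 11 122760 centT 57 = true := by decide +kernel
theorem centT_58 : belowBlock 11 122760 centT 58 = true := by decide +kernel
theorem centT_59 : belowBlock 11 122760 centT 59 = true := by decide +kernel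

end CfsgLib.Coset.ON.Out
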