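import Cfsg.Agent.Coset.ON.Out.Defs

set_option autoImplicit false
set_option maxRecDepth 100000
set_option Elab.async false

namespace CfsgLib.Coset.ON.Out

open CfsgLib.Coset

theorem centU_0 : belowBlock 11 122760 centU 0 = true := by decide +kernel
theorem centU_1 : belowBlock 11 122760 centU 1 = true := by decide +kernel
theorem centU_2 : belowBlock 11 122760 centU 2 = true := by decide +kernel
theorem centU_3 : belowBlock 11 122760 centU 3 = true := by decide +kernel
theorem centU_4 : belowBlock 11 122760 centU 4 = true := by decide +kernel
theorem centU_5 : belowBlock 11 122760 centU 5 = true := by decide +kernel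
theorem centU_6 : belowBlock 11 122760 centU 6 = true := by decide +kernel
theorem centU_7 : belowBlock 11 122760 centU 7 = true := by decide +kernel
theorem centU_8 : belowBlock 11 122760 centU 8 = true := by decide +kernel
theorem centU_9 : belowBlock 11 122760 centU 9 = true := by decide +kernel
theorem centU_10 : belowBlock 11 122760 centU 10 = true := by decide +kernel
theorem centU_11 : belowBlock 11 122760 centU 11 = true := by decide +kernel
theorem centU_12 : belowBlock 11 122760 centU 12 = true := by decide +kernel
theorem centU_13 : belowBlock 11 122760 centU 13 = true := by decide +kernel
theorem centU_14 : belowBlock 11 122760 centU 14 = true := by decide +kernel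

end CfsgLib.Coset.ON.Out
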