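import Cfsg.Agent.Coset.ON.Out.Defs

set_option autoImplicit false
set_option maxRecDepth 100000
set_option Elab.async false

namespace CfsgLib.Coset.ON.Out

open CfsgLib.Coset

theorem centU_15 : belowBlock 11 122760 centU 15 = true := by decide +kernel
theorem centU_16 : belowBlock 11 122760 centU 16 = true := by decide +kernel
theorem centU_17 : belowBlock 11 122760 centU 17 = true := by decide +kernel
theorem centU_18 : belowBlock 11 122760 centU 18 = true := by decide +kernel
theorem centU_19 : belowBlock 11 122760 centU 19 = true := by decide +kernel
theorem centU_20 : belowBlock 11 122760 centU 20 = true := by decide +kernel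
theorem centU_21 : belowBlock 11 122760 centU 21 = true := by decide +kernel
theorem centU_22 : belowBlock 11 122760 centU 22 = true := by decide +kernel
theorem centU_23 : belowBlock 11 122760 centU 23 = true := by decide +kernel
theorem centU_24 : belowBlock 11 122760 centU 24 = true := by decide +kernel
theorem centU_25 : belowBlock 11 122760 centU 25 = true := by decide +kernel
theorem centU_26 : belowBlock 11 122760 centU 26 = true := by decide +kernel
theorem centU_27 : belowBlock 11 122760 centU 27 = true := by decide +kernel
theorem centU_28 : belowBlock 11 122760 centU 28 = true := by decide +kernel
theorem centU_29 : belowBlock 11 122760 centU 29 = true := by decide +kernel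

end CfsgLib.Coset.ON.Out
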