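import Cfsg.Agent.Coset.ON.Out.Defs

set_option autoImplicit false
set_option maxRecDepth 100000
set_option Elab.async false

namespace CfsgLib.Coset.ON.Out

open CfsgLib.Coset

theorem centU_30 : belowBlock 11 122760 centU 30 = true := by decide +kernel
theorem centU_31 : belowBlock 11 122760 centU 31 = true := by decide +kernel
theorem centU_32 : belowBlock 11 122760 centU 32 = true := by decide +kernel
theorem centU_33 : belowBlock 11 122760 centU 33 = true := by decide +kernel
theorem centU_34 : belowBlock 11 122760 centU 34 = true := by decide +kernel
theorem centU_35 : belowBlock 11 122760 centU 35 = true := by decide +kernel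
theorem centU_36 : belowBlock 11 122760 centU 36 = true := by decide +kernel
theorem centU_37 : belowBlock 11 122760 centU 37 = true := by decide +kernel
theorem centU_38 : belowBlock 11 122760 centU 38 = true := by decide +kernel
theorem centU_39 : belowBlock 11 122760 centU 39 = true := by decide +kernel
theorem centU_40 : belowBlock 11 122760 centU 40 = true := by decide +kernel
theorem centU_41 : belowBlock 11 122760 centU 41 = true := by decide +kernel
theorem centU_42 : belowBlock 11 122760 centU 42 = true := by decide +kernel
theorem centU_43 : belowBlock 11 122760 centU 43 = true := by decide +kernel
theorem centU_44 : belowBlock 11 122760 centU 44 = true := by decide +kernel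

end CfsgLib.Coset.ON.Out
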