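import Cfsg.Agent.Coset.ON.Out.Defs

set_option autoImplicit false
set_option maxRecDepth 100000
set_option Elab.async false

namespace CfsgLib.Coset.ON.Out

open CfsgLib.Coset

theorem centU_45 : belowBlock 11 122760 centU 45 = true := by decide +kernel
theorem centU_46 : belowBlock 11 122760 centU 46 = true := by decide +kernel
theorem centU_47 : belowBlock 11 122760 centU 47 = true := by decide +kernel
theorem centU_48 : belowBlock 11 122760 centU 48 = true := by decide +kernel
theorem centU_49 : belowBlock 11 122760 centU 49 = true := by decide +kernel
theorem centU_50 : belowBlock 11 122760 centU 50 = true := by decide +kernel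
theorem centU_51 : belowBlock 11 122760 centU 51 = true := by decide +kernel
theorem centU_52 : belowBlock 11 122760 centU 52 = true := by decide +kernel
theorem centU_53 : belowBlock 11 122760 centU 53 = true := by decide +kernel
theorem centU_54 : belowBlock 11 122760 centU 54 = true := by decide +kernel
theorem centU_55 : belowBlock 11 122760 centU 55 = true := by decide +kernel
theorem centU_56 : belowBlock 11 122760 centU 56 = true := by decide +kernel
theorem centU_57 : belowBlock 11 122760 centU 57 = true := by decide +kernel
theorem centU_58 : belowBlock 11 122760 centU 58 = true := by decide +kernel
theorem centU_59 : belowBlock 11 122760 centU 59 = true := by decide +kernel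

end CfsgLib.Coset.ON.Out
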