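import Cfsg.Agent.Coset.ON.Out.Defs

set_option autoImplicit false
set_option maxRecDepth 100000
set_option Elab.async false

namespace CfsgLib.Coset.ON.Out

open CfsgLib.Coset

theorem levT0_0 : belowBlock 11 122760 (lev0 ST) 0 = true := by decide +kernel
theorem levT0_1 : belowBlock 11 122760 (lev0 ST) 1 = true := by decide +kernel
theorem levT0_2 : belowBlock 11 122760 (lev0 ST) 2 = true := by decide +kernel
theorem levT0_3 : belowBlock 11 122760 (lev0 ST) 3 = true := by decide +kernel
theorem levT0_4 : belowBlock 11 122760 (lev0 ST) 4 = true := by decide +kernel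
theorem levT0_5 : belowBlock 11 122760 (lev0 ST) 5 = true := by decide +kernel
theorem levT0_6 : belowBlock 11 122760 (lev0 ST) 6 = true := by decide +kernel
theorem levT0_7 : belowBlock 11 122760 (lev0 ST) 7 = true := by decide +kernel
theorem levT0_8 : belowBlock 11 122760 (lev0 ST) 8 = true := by decide +kernel
theorem levT0_9 : belowBlock 11 122760 (lev0 ST) 9 = true := by decide +kernel
theorem levT0_10 : belowBlock 11 122760 (lev0 ST) 10 = true := by decide +kernel
theorem levT0_11 : belowBlock 11 122760 (lev0 ST) 11 = true := by decide +kernel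
theorem levT0_12 : belowBlock 11 122760 (lev0 ST) 12 = true := by decide +kernel
theorem levT0_13 : belowBlock 11 122760 (lev0 ST) 13 = true := by decide +kernel
theorem levT0_14 : belowBlock 11 122760 (lev0 ST) 14 = true := by decide +kernel

end CfsgLib.Coset.ON.Out
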