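import Cfsg.Agent.Coset.ON.Out.Defs

set_option autoImplicit false
set_option maxRecDepth 100000
set_option Elab.async false

namespace CfsgLib.Coset.ON.Out

open CfsgLib.Coset

theorem levT0_15 : belowBlock 11 122760 (lev0 ST) 15 = true := by decide +kernel
theorem levT0_16 : belowBlock 11 122760 (lev0 ST) 16 = true := by decide +kernel
theorem levT0_17 : belowBlock 11 122760 (lev0 ST) 17 = true := by decide +kernel
theorem levT0_18 : belowBlock 11 122760 (lev0 ST) 18 = true := by decide +kernel
theorem levT0_19 : belowBlock 11 122760 (lev0 ST) 19 = true := by decide +kernel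
theorem levT0_20 : belowBlock 11 122760 (lev0 ST) 20 = true := by decide +kernel
theorem levT0_21 : belowBlock 11 122760 (lev0 ST) 21 = true := by decide +kernel
theorem levT0_22 : belowBlock 11 122760 (lev0 ST) 22 = true := by decide +kernel
theorem levT0_23 : belowBlock 11 122760 (lev0 ST) 23 = true := by decide +kernel
theorem levT0_24 : belowBlock 11 122760 (lev0 ST) 24 = true := by decide +kernel
theorem levT0_25 : belowBlock 11 122760 (lev0 ST) 25 = true := by decide +kernel
theorem levT0_26 : belowBlock 11 122760 (lev0 ST) 26 = true := by decide +kernel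
theorem levT0_27 : belowBlock 11 122760 (lev0 ST) 27 = true := by decide +kernel
theorem levT0_28 : belowBlock 11 122760 (lev0 ST) 28 = true := by decide +kernel
theorem levT0_29 : belowBlock 11 122760 (lev0 ST) 29 = true := by decide +kernel

end CfsgLib.Coset.ON.Out
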