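import Cfsg.Agent.Coset.ON.Out.Defs

set_option autoImplicit false
set_option maxRecDepth 100000
set_option Elab.async false

namespace CfsgLib.Coset.ON.Out

open CfsgLib.Coset

theorem levT0_45 : belowBlock 11 122760 (lev0 ST) 45 = true := by decide +kernel
theorem levT0_46 : belowBlock 11 122760 (lev0 ST) 46 = true := by decide +kernel
theorem levT0_47 : belowBlock 11 122760 (lev0 ST) 47 = true := by decide +kernel
theorem levT0_48 : belowBlock 11 122760 (lev0 ST) 48 = true := by decide +kernel
theorem levT0_49 : belowBlock 11 122760 (lev0 ST) 49 = true := by decide +kernel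
theorem levT0_50 : belowBlock 11 122760 (lev0 ST) 50 = true := by decide +kernel
theorem levT0_51 : belowBlock 11 122760 (lev0 ST) 51 = true := by decide +kernel
theorem levT0_52 : belowBlock 11 122760 (lev0 ST) 52 = true := by decide +kernel
theorem levT0_53 : belowBlock 11 122760 (lev0 ST) 53 = true := by decide +kernel
theorem levT0_54 : belowBlock 11 122760 (lev0 ST) 54 = true := by decide +kernel
theorem levT0_55 : belowBlock 11 122760 (lev0 ST) 55 = true := by decide +kernel
theorem levT0_56 : belowBlock 11 122760 (lev0 ST) 56 = true := by decide +kernel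
theorem levT0_57 : belowBlock 11 122760 (lev0 ST) 57 = true := by decide +kernel
theorem levT0_58 : belowBlock 11 122760 (lev0 ST) 58 = true := by decide +kernel
theorem levT0_59 : belowBlock 11 122760 (lev0 ST) 59 = true := by decide +kernel

end CfsgLib.Coset.ON.Out
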