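import Cfsg.Agent.Coset.ON.Out.Defs

set_option autoImplicit false
set_option maxRecDepth 100000
set_option Elab.async false

namespace CfsgLib.Coset.ON.Out

open CfsgLib.Coset

theorem levU0_0 : belowBlock 11 122760 (lev0 SU) 0 = true := by decide +kernel
theorem levU0_1 : belowBlock 11 122760 (lev0 SU) 1 = true := by decide +kernel
theorem levU0_2 : belowBlock 11 122760 (lev0 SU) 2 = true := by decide +kernel
theorem levU0_3 : belowBlock 11 122760 (lev0 SU) 3 = true := by decide +kernel
theorem levU0_4 : belowBlock 11 122760 (lev0 SU) 4 = true := by decide +kernel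
theorem levU0_5 : belowBlock 11 122760 (lev0 SU) 5 = true := by decide +kernel
theorem levU0_6 : belowBlock 11 122760 (lev0 SU) 6 = true := by decide +kernel
theorem levU0_7 : belowBlock 11 122760 (lev0 SU) 7 = true := by decide +kernel
theorem levU0_8 : belowBlock 11 122760 (lev0 SU) 8 = true := by decide +kernel
theorem levU0_9 : belowBlock 11 122760 (lev0 SU) 9 = true := by decide +kernel
theorem levU0_10 : belowBlock 11 122760 (lev0 SU) 10 = true := by decide +kernel
theorem levU0_11 : belowBlock 11 122760 (lev0 SU) 11 = true := by decide +kernel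
theorem levU0_12 : belowBlock 11 122760 (lev0 SU) 12 = true := by decide +kernel
theorem levU0_13 : belowBlock 11 122760 (lev0 SU) 13 = true := by decide +kernel
theorem levU0_14 : belowBlock 11 122760 (lev0 SU) 14 = true := by decide +kernel

end CfsgLib.Coset.ON.Out
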