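import Cfsg.Agent.Coset.ON.Out.Defs

set_option autoImplicit false
set_option maxRecDepth 100000
set_option Elab.async false

namespace CfsgLib.Coset.ON.Out

open CfsgLib.Coset

theorem levU0_30 : belowBlock 11 122760 (lev0 SU) 30 = true := by decide +kernel
theorem levU0_31 : belowBlock 11 122760 (lev0 SU) 31 = true := by decide +kernel
theorem levU0_32 : belowBlock 11 122760 (lev0 SU) 32 = true := by decide +kernel
theorem levU0_33 : belowBlock 11 122760 (lev0 SU) 33 = true := by decide +kernel
theorem levU0_34 : belowBlock 11 122760 (lev0 SU) 34 = true := by decide +kernel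
theorem levU0_35 : belowBlock 11 122760 (lev0 SU) 35 = true := by decide +kernel
theorem levU0_36 : belowBlock 11 122760 (lev0 SU) 36 = true := by decide +kernel
theorem levU0_37 : belowBlock 11 122760 (lev0 SU) 37 = true := by decide +kernel
theorem levU0_38 : belowBlock 11 122760 (lev0 SU) 38 = true := by decide +kernel
theorem levU0_39 : belowBlock 11 122760 (lev0 SU) 39 = true := by decide +kernel
theorem levU0_40 : belowBlock 11 122760 (lev0 SU) 40 = true := by decide +kernel
theorem levU0_41 : belowBlock 11 122760 (lev0 SU) 41 = true := by decide +kernel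
theorem levU0_42 : belowBlock 11 122760 (lev0 SU) 42 = true := by decide +kernel
theorem levU0_43 : belowBlock 11 122760 (lev0 SU) 43 = true := by decide +kernel
theorem levU0_44 : belowBlock 11 122760 (lev0 SU) 44 = true := by decide +kernel

end CfsgLib.Coset.ON.Out
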