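import Cfsg.Agent.Coset.ON.Out.Defs

set_option autoImplicit false
set_option maxRecDepth 100000
set_option Elab.async false

namespace CfsgLib.Coset.ON.Out

open CfsgLib.Coset

theorem levU0_45 : belowBlock 11 122760 (lev0 SU) 45 = true := by decide +kernel
theorem levU0_46 : belowBlock 11 122760 (lev0 SU) 46 = true := by decide +kernel
theorem levU0_47 : belowBlock 11 122760 (lev0 SU) 47 = true := by decide +kernel
theorem levU0_48 : belowBlock 11 122760 (lev0 SU) 48 = true := by decide +kernel
theorem levU0_49 : belowBlock 11 122760 (lev0 SU) 49 = true := by decide +kernel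
theorem levU0_50 : belowBlock 11 122760 (lev0 SU) 50 = true := by decide +kernel
theorem levU0_51 : belowBlock 11 122760 (lev0 SU) 51 = true := by decide +kernel
theorem levU0_52 : belowBlock 11 122760 (lev0 SU) 52 = true := by decide +kernel
theorem levU0_53 : belowBlock 11 122760 (lev0 SU) 53 = true := by decide +kernel
theorem levU0_54 : belowBlock 11 122760 (lev0 SU) 54 = true := by decide +kernel
theorem levU0_55 : belowBlock 11 122760 (lev0 SU) 55 = true := by decide +kernel
theorem levU0_56 : belowBlock 11 122760 (lev0 SU) 56 = true := by decide +kernel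
theorem levU0_57 : belowBlock 11 122760 (lev0 SU) 57 = true := by decide +kernel
theorem levU0_58 : belowBlock 11 122760 (lev0 SU) 58 = true := by decide +kernel
theorem levU0_59 : belowBlock 11 122760 (lev0 SU) 59 = true := by decide +kernel

end CfsgLib.Coset.ON.Out
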