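import Cfsg.Agent.Coset.ON.Out.ChkSmall
import Cfsg.Agent.Coset.ON.Out.ChkCentU0
import Cfsg.Agent.Coset.ON.Out.ChkCentU1
import Cfsg.Agent.Coset.ON.Out.ChkCentU2
import Cfsg.Agent.Coset.ON.Out.ChkCentU3
import Cfsg.Agent.Coset.ON.Out.ChkCentT0
import Cfsg.Agent.Coset.ON.Out.ChkCentT1
import Cfsg.Agent.Coset.ON.Out.ChkCentT2
import Cfsg.Agent.Coset.ON.Out.ChkCentT3
import Cfsg.Agent.Coset.ON.Out.ChkLevU0
import Cfsg.Agent.Coset.ON.Out.ChkLevU1
import Cfsg.Agent.Coset.ON.Out.ChkLevU2
import Cfsg.Agent.Coset.ON.Out.ChkLevU3
import Cfsg.Agent.Coset.ON.Out.ChkLevT0
import Cfsg.Agent.Coset.ON.Out.ChkLevT1
import Cfsg.Agent.Coset.ON.Out.ChkLevT2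
import Cfsg.Agent.Coset.ON.Out.ChkLevT3
import Mathlib.Tactic.IntervalCases
import Mathlib.Tactic.Ring

set_option autoImplicit false
set_option maxRecDepth 100000
set_option Elab.async false

namespace CfsgLib.Coset.ON.Out

open CfsgLib.Coset

theorem belowBlock_high {d n b : Nat} {p : Nat → Bool} (hn : n ≤ 60 * 2 ^ d) (hb : 60 ≤ b) :
    belowBlock d n p b = true := by
  have key : ∀ (d s : Nat) (q : Nat → Bool), (∀ i, s * 2 ^ d ≤ i → q i = true) →
      allBlock d s q = true := by
    intro d
    induction d with
    | zero => intro s q h; exact h s (by simp)
    | succ d ih =>
      intro s q h
      change cond (allBlock d (2 * s) q) (allBlock d (2 * s + 1) q) false = true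
      have e : s * 2 ^ (d + 1) = 2 * s * 2 ^ d := by rw [pow_succ]; ring
      exact cond_false_eq_true.mpr ⟨ih _ _ fun i hi => h i (e.trans_le hi),
        ih _ _ fun i hi => h i (e.trans_le (le_trans (Nat.mul_le_mul_right _ (by omega)) hi))⟩
  refine key d b _ fun i hi => ?_
  rw [Nat.ble_eq.mpr (hn.trans ((Nat.mul_le_mul_right _ hb).trans hi))]
  rfl

theorem centU_below : allBelow (11 + 6) 122760 centU = true :=
  allBelow_of_blocks (by decide +kernel) fun b hb => by
    rcases Nat.lt_or_ge b 60 with h | h
    · interval_cases b
      · exact centU_0
      · exact centU_1
      · exact centU_2
      · exact centU_3
      · exact centU_4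
      · exact centU_5
      · exact centU_6
      · exact centU_7
      · exact centU_8
      · exact centU_9
      · exact centU_10
      · exact centU_11
      · exact centU_12
      · exact centU_13
      · exact centU_14
      · exact centU_15
      · exact centU_16
      · exact centU_17
      · exact centU_18
      · exact centU_19
      · exact centU_20
      · exact centU_21
      · exact centU_22
      · exact centU_23
      · exact centU_24
      · exact centU_25
      · exact centU_26
      · exact centU_27
      · exact centU_28
      · exact centU_29
      · exact centU_30
      · exact centU_31
      · exact centU_32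
      · exact centU_33
      · exact centU_34
      · exact centU_35
      · exact centU_36
      · exact centU_37
      · exact centU_38
      · exact centU_39
      · exact centU_40
      · exact centU_41
      · exact centU_42
      · exact centU_43
      · exact centU_44
      · exact centU_45
      · exact centU_46
      · exact centU_47
      · exact centU_48
      · exact centU_49
      · exact centU_50
      · exact centU_51
      · exact centU_52
      · exact centU_53
      · exact centU_54
      · exact centU_55
      · exact centU_56
      · exact centU_57
      · exact centU_58
      · exact centU_59
    · exact belowBlock_high (by decide) h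

theorem centT_below : allBelow (11 + 6) 122760 centT = true :=
  allBelow_of_blocks (by decide +kernel) fun b hb => by
    rcases Nat.lt_or_ge b 60 with h | h
    · interval_cases b
      · exact centT_0
      · exact centT_1
      · exact centT_2
      · exact centT_3
      · exact centT_4
      · exact centT_5
      · exact centT_6
      · exact centT_7
      · exact centT_8
      · exact centT_9
      · exact centT_10
      · exact centT_11
      · exact centT_12
      · exact centT_13
      · exact centT_14
      · exact centT_15
      · exact centT_16
      · exact centT_17
      · exact centT_18
      · exact centT_19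
      · exact centT_20
      · exact centT_21
      · exact centT_22
      · exact centT_23
      · exact centT_24
      · exact centT_25
      · exact centT_26
      · exact centT_27
      · exact centT_28
      · exact centT_29
      · exact centT_30
      · exact centT_31
      · exact centT_32
      · exact centT_33
      · exact centT_34
      · exact centT_35
      · exact centT_36
      · exact centT_37
      · exact centT_38
      · exact centT_39
      · exact centT_40
      · exact centT_41
      · exact centT_42
      · exact centT_43
      · exact centT_44
      · exact centT_45
      · exact centT_46
      · exact centT_47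
      · exact centT_48
      · exact centT_49
      · exact centT_50
      · exact centT_51
      · exact centT_52
      · exact centT_53
      · exact centT_54
      · exact centT_55
      · exact centT_56
      · exact centT_57
      · exact centT_58
      · exact centT_59
    · exact belowBlock_high (by decide) h

theorem levU0_below : allBelow (11 + 6) 122760 (lev0 SU) = true :=
  allBelow_of_blocks (by decide +kernel) fun b hb => by
    rcases Nat.lt_or_ge b 60 with h | h
    · interval_cases b
      · exact levU0_0
      · exact levU0_1
      · exact levU0_2
      · exact levU0_3
      · exact levU0_4
      · exact levU0_5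
      · exact levU0_6
      · exact levU0_7
      · exact levU0_8
      · exact levU0_9
      · exact levU0_10
      · exact levU0_11
      · exact levU0_12
      · exact levU0_13
      · exact levU0_14
      · exact levU0_15
      · exact levU0_16
      · exact levU0_17
      · exact levU0_18
      · exact levU0_19
      · exact levU0_20
      · exact levU0_21
      · exact levU0_22
      · exact levU0_23
      · exact levU0_24
      · exact levU0_25
      · exact levU0_26
      · exact levU0_27
      · exact levU0_28
      · exact levU0_29
      · exact levU0_30
      · exact levU0_31
      · exact levU0_32
      · exact levU0_33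
      · exact levU0_34
      · exact levU0_35
      · exact levU0_36
      · exact levU0_37
      · exact levU0_38
      · exact levU0_39
      · exact levU0_40
      · exact levU0_41
      · exact levU0_42
      · exact levU0_43
      · exact levU0_44
      · exact levU0_45
      · exact levU0_46
      · exact levU0_47
      · exact levU0_48
      · exact levU0_49
      · exact levU0_50
      · exact levU0_51
      · exact levU0_52
      · exact levU0_53
      · exact levU0_54
      · exact levU0_55
      · exact levU0_56
      · exact levU0_57
      · exact levU0_58
      · exact levU0_59
    · exact belowBlock_high (by decide) h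

theorem levT0_below : allBelow (11 + 6) 122760 (lev0 ST) = true :=
  allBelow_of_blocks (by decide +kernel) fun b hb => by
    rcases Nat.lt_or_ge b 60 with h | h
    · interval_cases b
      · exact levT0_0
      · exact levT0_1
      · exact levT0_2
      · exact levT0_3
      · exact levT0_4
      · exact levT0_5
      · exact levT0_6
      · exact levT0_7
      · exact levT0_8
      · exact levT0_9
      · exact levT0_10
      · exact levT0_11
      · exact levT0_12
      · exact levT0_13
      · exact levT0_14
      · exact levT0_15
      · exact levT0_16
      · exact levT0_17
      · exact levT0_18
      · exact levT0_19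
      · exact levT0_20
      · exact levT0_21
      · exact levT0_22
      · exact levT0_23
      · exact levT0_24
      · exact levT0_25
      · exact levT0_26
      · exact levT0_27
      · exact levT0_28
      · exact levT0_29
      · exact levT0_30
      · exact levT0_31
      · exact levT0_32
      · exact levT0_33
      · exact levT0_34
      · exact levT0_35
      · exact levT0_36
      · exact levT0_37
      · exact levT0_38
      · exact levT0_39
      · exact levT0_40
      · exact levT0_41
      · exact levT0_42
      · exact levT0_43
      · exact levT0_44
      · exact levT0_45
      · exact levT0_46
      · exact levT0_47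
      · exact levT0_48
      · exact levT0_49
      · exact levT0_50
      · exact levT0_51
      · exact levT0_52
      · exact levT0_53
      · exact levT0_54
      · exact levT0_55
      · exact levT0_56
      · exact levT0_57
      · exact levT0_58
      · exact levT0_59
    · exact belowBlock_high (by decide) h

theorem centU_all (q : Nat) (hq : q < 122760) : centU q = true := of_allBelow centU_below q hq

theorem centT_all (q : Nat) (hq : q < 122760) : centT q = true := of_allBelow centT_below q hq

theorem levU : ∀ i < 4, ∃ d, SU.checkLev Top.Tb 122760 8 d i = true := by
  intro i hi
  match i with
  | 0 => exact ⟨11 + 6, cond_false_eq_true.mpr ⟨by decide +kernel, levU0_below⟩⟩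
  | j + 1 => exact ⟨13, of_allBelow levU_rest j (by omega)⟩

theorem levT : ∀ i < 4, ∃ d, ST.checkLev Top.Tb 122760 8 d i = true := by
  intro i hi
  match i with
  | 0 => exact ⟨11 + 6, cond_false_eq_true.mpr ⟨by decide +kernel, levT0_below⟩⟩
  | j + 1 => exact ⟨13, of_allBelow levT_rest j (by omega)⟩

end CfsgLib.Coset.ON.Out
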