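import Cfsg.Agent.Coset.ON.Out.Defs

set_option autoImplicit false
set_option maxRecDepth 100000
set_option Elab.async false

namespace CfsgLib.Coset.ON.Out

open CfsgLib.Coset

theorem levT_rest : allBelow 2 3 (fun i => ST.checkLev Top.Tb 122760 8 13 (Nat.succ i)) = true := by decide +kernel

theorem levU_rest : allBelow 2 3 (fun i => SU.checkLev Top.Tb 122760 8 13 (Nat.succ i)) = true := by decide +kernel

theorem baseU : allBelow 2 4 (fun i =>
    Nat.beq (SU.B i) (follow (tget Top.Tb) (SU.B 0) (rep i uW))) = true := by decide +kernel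

theorem baseT : allBelow 2 4 (fun i =>
    Nat.beq (ST.B i) (follow (tget Top.Tb) (ST.B 0) (rep i tW))) = true := by decide +kernel

theorem letters_ok : checkLetters 8 [uW, sW, tW, zW, z2W, gW, giW, zgW, z2gW] = true := by decide +kernel

theorem u_ok : cond (ST.eqB Top.Tb (rep 11 uW) []) (cond (ST.eqB Top.Tb uW []) false true) false = true := by decide +kernel

theorem s_ok : ST.eqB Top.Tb (uW ++ sW) (sW ++ rep 2 uW) = true := by decide +kernel

theorem g_inv : ST.eqB Top.Tb (gW ++ giW) [] = true := by decide +kernel

theorem g_conj : ST.eqB Top.Tb (tW ++ gW) (gW ++ (sW ++ sW)) = true := by decide +kernel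

theorem z_g : ST.eqB Top.Tb (gW ++ (zW ++ giW)) zgW = true := by decide +kernel

theorem z2_g : ST.eqB Top.Tb (gW ++ (z2W ++ giW)) z2gW = true := by decide +kernel

theorem z_comm : ST.eqB Top.Tb (zW ++ (sW ++ sW)) ((sW ++ sW) ++ zW) = true := by decide +kernel

theorem z_sq : ST.eqB Top.Tb (zW ++ zW) [] = true := by decide +kernel

theorem z_tests : tests zgW = true := by decide +kernel

theorem img_letters : checkLetters 8 imgW = true := by decide +kernel

theorem img_iv : allBelow 3 8 (fun x =>
    ST.eqB Top.Tb (imgW.getD (iv x) [] ++ imgW.getD x []) []) = true := by decide +kernel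

theorem sub_rels : allList (fun w => ST.eqB Top.Tb (subW w) []) rels = true := by decide +kernel

theorem sub_u : ST.eqB Top.Tb (subW uW) uW = true := by decide +kernel

theorem sub_z : ST.eqB Top.Tb (subW zW) z2W = true := by decide +kernel

theorem uz_ne : allBelow 4 11 (fun i =>
    cond (ST.eqB Top.Tb (rep i uW ++ zW) (z2W ++ rep i uW)) false true) = true := by decide +kernel

theorem gen_ok : allBelow 3 7 (fun l =>
    cond (checkLetters 8 [sylW (genA.getD l [])])
      (ST.eqB Top.Tb (sylW (genA.getD l [])) [l]) false) = true := by decide +kernel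

end CfsgLib.Coset.ON.Out
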