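import Cfsg.Agent.Coset.Sift

set_option autoImplicit false

namespace CfsgLib.Coset.ON.Out

/-- An element of order 11. -/
def uW : List Nat := [1, 2, 3, 4, 6]

/-- An element of order 10 normalising the subgroup of order 11. -/
def sW : List Nat := [0, 1, 7, 2, 1, 0, 3, 2, 4, 3, 2, 1, 3, 2, 3, 2, 4, 1, 3, 2, 1, 0, 4, 3, 5, 4, 3, 2, 1, 0, 6, 1, 0, 2, 4, 3, 2, 1, 0, 7, 3, 2, 4, 5]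

/-- A short word conjugate to the square of the element of order 10. -/
def tW : List Nat := [1, 6, 2, 7]

/-- An involution centralising the square of the element of order 10. -/
def zW : List Nat := [4, 6, 3, 1, 2, 7, 4, 3, 2, 6, 4, 1, 7, 4, 5, 2, 3, 4, 2, 3, 2, 1, 0, 6, 1, 4, 3, 2, 3, 7, 4, 6, 3, 2, 3, 4, 1, 7, 0, 1, 2, 3, 2, 4, 3, 2, 5, 4, 6, 1, 4, 7, 2, 3, 4, 6, 2, 1, 3, 7, 4]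

/-- Its partner under the outer automorphism. -/
def z2W : List Nat := [3, 2, 3, 4, 1, 7, 2, 1, 0, 3, 2, 1, 5, 4, 3, 2, 1, 3, 2, 4, 3, 2, 1, 3, 2, 3, 4, 5, 2, 1, 0, 5, 4, 6, 4, 3, 2, 1, 0, 3, 2, 1, 0, 3, 4, 3, 6]

/-- The conjugator to the short word of order 5. -/
def gW : List Nat := [3, 2, 3, 4, 1, 7, 0, 1, 2, 3, 2, 4, 3, 2, 5, 4, 6, 1, 4, 7, 2, 3, 4, 6, 2, 1, 3, 7, 4]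

/-- Its inverse. -/
def giW : List Nat := [4, 6, 3, 1, 2, 7, 4, 3, 2, 6, 4, 1, 7, 4, 5, 2, 3, 4, 2, 3, 2, 1, 0, 6, 1, 4, 3, 2, 3]

/-- The conjugate of the involution centralising the short word. -/
def zgW : List Nat := [7, 4, 6]

/-- The conjugate of its partner. -/
def z2gW : List Nat := [0, 1, 7, 4, 5, 4, 6, 1, 0, 4, 5]

/-- The images of the letters under the outer automorphism. -/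
def imgW : List (List Nat) := [[0, 1, 7, 0, 1, 2, 1, 3, 4, 3, 2, 1, 3, 2, 4, 3, 2, 1, 3, 2, 3, 2, 4, 2, 3, 4, 5, 4, 3, 2, 1, 3, 2, 1, 0, 3, 5, 4, 3, 2, 1, 3, 2, 1, 0, 4, 3, 2, 5, 4, 3, 6, 1, 3, 4, 3, 2, 6, 1, 4, 3, 2, 1, 0], [0, 1, 7, 2, 1, 3, 4, 3, 2, 1, 3, 2, 1, 3, 2, 4, 1, 3, 2, 4, 5, 4, 3, 6, 3, 4, 3, 2, 1, 7, 2, 3, 4], [3, 2, 3, 4, 1, 7, 2, 1, 3, 2, 1, 4, 3, 2, 5, 4, 3, 2, 1, 0, 3, 2, 6, 1, 2, 3, 2, 4, 6, 1, 0, 4, 3, 2, 1, 3], [0, 1, 7, 0, 1, 2, 1, 3, 4, 3, 2, 1, 3, 2, 4, 3, 2, 1, 3, 2, 3, 2, 4, 1, 0, 2, 1, 0, 4, 3, 2, 1, 3, 2, 3, 4, 1, 3, 2, 1, 4, 3, 2, 3, 2, 4, 3, 2, 6, 2, 1, 4, 3, 2, 1, 7, 3, 2, 4], [0, 1, 7, 1, 0, 2, 1, 0, 3, 4, 3, 2, 1, 0, 1, 0, 3, 2, 1, 3, 2, 1, 3, 4, 3, 2, 1, 0, 3, 2, 4, 6, 1, 2, 4, 3, 2, 6, 1, 2, 4, 3, 6, 2],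 [3, 2, 3, 4, 1, 7, 0, 2, 1, 5, 4, 3, 2, 3, 2, 1, 0, 4, 3, 2, 1, 3, 2, 4, 3, 2, 3, 4, 1, 0, 2, 1, 0, 3, 4, 3, 2, 3, 2, 1, 4, 3, 2, 3, 5, 4, 3, 2, 1, 3, 0, 2, 4, 3, 5, 4, 3, 6, 1, 2, 3, 6, 4, 6, 3, 2, 7, 1, 3], [0, 1, 7, 0, 1, 2, 1, 3, 4, 3, 2, 1, 3, 2, 4, 3, 2, 1, 3, 2, 3, 2, 4, 2, 1, 0, 3, 2, 3, 4, 3, 2, 1, 3, 2, 4, 5, 4, 1, 3, 2, 1, 0, 3, 4, 3, 2, 1, 3, 2, 1, 3, 4, 3, 2, 6, 1, 2, 4, 3, 2, 3, 6, 4, 3, 2, 6], [0, 1, 7, 2, 1, 3, 4, 3, 2, 1, 5, 4, 3, 2, 1, 3, 2, 4, 1, 3, 2, 1, 4, 3, 2, 3, 2, 4, 3, 2, 1, 0, 3, 2, 6, 1, 0, 2, 1, 3, 2, 4, 6, 3, 7, 4]]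

/-- The generators as products of powers of the element of order 11 times the involution. -/
def genA : List (List Nat) := [[6, 9, 1, 1, 4, 5, 5, 8, 9, 8, 8, 3], [2, 4, 3, 2, 8, 8, 6, 1, 6, 3, 10, 2, 5, 8, 8], [3, 4, 5, 1, 9, 7, 3, 1, 6, 1, 8, 4, 10], [2, 6, 6, 6, 1, 3, 3, 10, 8, 5, 9, 1, 5], [10, 4, 2, 8, 8, 9, 7, 10, 9, 5, 7, 8, 6], [4, 10, 1, 5, 8, 9, 1, 6, 4, 6, 4], [1, 4, 2, 4, 8, 10, 1, 10, 4, 6, 1]]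

end CfsgLib.Coset.ON.Out
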