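import Cfsg.Agent.Coset.ON.TbData
import Cfsg.Agent.Coset.Blocks
import Cfsg.Agent.Coset.ON.Rels
import Cfsg.Agent.Coset.ON.Out.Words
import Cfsg.Agent.Coset.ON.Out.DataT
import Cfsg.Agent.Coset.ON.Out.DataU

/-! Boolean checks for the outer automorphism group of the presented Suzuki group. -/

set_option autoImplicit false
set_option maxRecDepth 100000
set_option Elab.async false

namespace CfsgLib.Coset.ON.Out

open CfsgLib.Coset

section Kernel

/-- Repetition of a word. -/
noncomputable def rep (m : Nat) (w : List Nat) : List Nat :=
  Nat.rec (motive := fun _ => List Nat) [] (fun _ ih => w ++ ih) m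

/-- A word with the letters replaced by their images. -/
noncomputable def subW (w : List Nat) : List Nat :=
  List.rec (motive := fun _ => List Nat) [] (fun l _ ih => imgW.getD l [] ++ ih) w

/-- A product of syllables. -/
noncomputable def sylW (a : List Nat) : List Nat :=
  List.rec (motive := fun _ => List Nat) [] (fun e _ ih => (rep e uW ++ zW) ++ ih) a

/-- The test passed by the conjugated involution. -/
noncomputable def tests (w : List Nat) : Bool :=
  ST.eqB Top.Tb (rep 19 (uW ++ (giW ++ (w ++ gW)))) []

/-- A word commuting with `u` carries the first base point into its cycle. -/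
noncomputable def centU (q : Nat) : Bool :=
  SU.siftAll Top.Tb (fun i => followF (tget Top.Tb) q (rep i uW)) fun w =>
    cond (SU.eqB Top.Tb (w ++ uW) (uW ++ w))
      (cond (allBelow 4 11 fun i =>
        cond (Nat.beq q (followF (tget Top.Tb) (SU.B 0) (rep i uW))) false true) false true) true

/-- An involution commuting with the short word of order 5 passes the test only if it is one of
two. -/
noncomputable def centT (q : Nat) : Bool :=
  ST.siftAll Top.Tb (fun i => followF (tget Top.Tb) q (rep i tW)) fun w =>
    cond (ST.eqB Top.Tb (w ++ tW) (tW ++ w))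
      (cond (ST.eqB Top.Tb (w ++ w) [])
        (cond (ST.eqB Top.Tb w zgW) true
          (cond (ST.eqB Top.Tb w z2gW) true (cond (tests w) false true))) true) true

/-- One entry of the transversal of the first base point. -/
noncomputable def lev0 (S : SiftData) (j : Nat) : Bool :=
  cond (checkLetters 8 [S.wd 0 j])
    (cond (allBelow 3 0 fun h => Nat.beq (follow (tget Top.Tb) (S.B h) (S.wd 0 j)) (S.B h))
      (Nat.beq (S.I 0 (follow (tget Top.Tb) (S.B 0) (S.wd 0 j))) j) false) false

end Kernel

end CfsgLib.Coset.ON.Out
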