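import Cfsg.Agent.Coset.ON.Simplicity
import Cfsg.Agent.Coset.ON.Out.Checks
import Cfsg.Prelude.Def_KGroupFacts
import Mathlib.GroupTheory.Sylow

/-!
The outer automorphism group of the presented O'Nan group has order two.

An automorphism can be composed with an inner one to fix an element `U` of order 11 and an
element `S` of order 10 normalising its subgroup; then the image of an involution `Z` centralising
`S ^ 2` is one of two elements, and `U`, `Z` generate the group.
-/

set_option autoImplicit false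
set_option maxRecDepth 100000
set_option Elab.async false

namespace CfsgLib.Coset.ON.Out

open CfsgLib.Coset

local notation "Gr" => Cfsg.Spor.ON

theorem valid_of {D : SiftData} (hk : D.k = 4) (hiv : ∀ l, D.iv l = iv l)
    (hm : ∏ i : Fin D.k, D.m i = 460815505920)
    (h : ∀ i < 4, ∃ d, D.checkLev Top.Tb 122760 8 d i = true) : D.Valid Lg ρ Top.Tb where
  hm := matches_ρ
  inv l := by rw [hiv]; exact inv_Lg l
  inv_lt l hl := by
    rw [hiv, len_Lg]
    rw [len_Lg] at hl
    exact (iv_lt l hl).1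
  lev i hi := by rw [len_Lg]; exact h i (hk ▸ hi)
  card := by rw [card_ON.2, hm]
  fin := card_ON.1

theorem VT : ST.Valid Lg ρ Top.Tb :=
  valid_of rfl (fun _ => rfl)
    (by show (∏ i : Fin 4, [122760, 5586, 84, 8].getD i 0) = _; simp [Fin.prod_univ_succ]) levT

theorem VU : SU.Valid Lg ρ Top.Tb :=
  valid_of rfl (fun _ => rfl)
    (by show (∏ i : Fin 4, [122760, 5586, 336, 2].getD i 0) = _; simp [Fin.prod_univ_succ]) levU

theorem kT : ST.k ≤ 8 := by decide

theorem lt8 {ws : List (List Nat)} (h : checkLetters 8 ws = true) {w : List Nat} (hw : w ∈ ws) :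
    ∀ l ∈ w, l < (Lg).length := fun l hl => by rw [len_Lg]; exact letters_lt h w hw l hl

theorem lu : ∀ l ∈ uW, l < (Lg).length := lt8 letters_ok (by simp)
theorem ls : ∀ l ∈ sW, l < (Lg).length := lt8 letters_ok (by simp)
theorem lt : ∀ l ∈ tW, l < (Lg).length := lt8 letters_ok (by simp)
theorem lz : ∀ l ∈ zW, l < (Lg).length := lt8 letters_ok (by simp)
theorem lz2 : ∀ l ∈ z2W, l < (Lg).length := lt8 letters_ok (by simp)
theorem lg : ∀ l ∈ gW, l < (Lg).length := lt8 letters_ok (by simp)
theorem lgi : ∀ l ∈ giW, l < (Lg).length := lt8 letters_ok (by simp)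
theorem lzg : ∀ l ∈ zgW, l < (Lg).length := lt8 letters_ok (by simp)
theorem lz2g : ∀ l ∈ z2gW, l < (Lg).length := lt8 letters_ok (by simp)

theorem lapp {u w : List Nat} (hu : ∀ l ∈ u, l < (Lg).length) (hw : ∀ l ∈ w, l < (Lg).length) :
    ∀ l ∈ u ++ w, l < (Lg).length := fun l h => (List.mem_append.mp h).elim (hu l) (hw l)

theorem lrep {w : List Nat} (hw : ∀ l ∈ w, l < (Lg).length) :
    ∀ m, ∀ l ∈ rep m w, l < (Lg).length := by
  intro m
  induction m with
  | zero => intro l h; simp [rep] at h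
  | succ m ih => exact lapp hw ih

theorem lnil : ∀ l ∈ ([] : List Nat), l < (Lg).length := by simp

theorem ev_rep (w : List Nat) : ∀ m, ev Lg (rep m w) = ev Lg w ^ m := by
  intro m
  induction m with
  | zero => simp [rep]
  | succ m ih => rw [show rep (m + 1) w = w ++ rep m w from rfl, ev_append, ih, pow_succ']

theorem eqW {u w : List Nat} (hu : ∀ l ∈ u, l < (Lg).length) (hw : ∀ l ∈ w, l < (Lg).length) :
    ST.eqB Top.Tb u w = true ↔ ev Lg u = ev Lg w :=
  VT.eqB_iff kT hu hw

/-- The element of order 11. -/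
noncomputable def U : Gr := ev Lg uW

/-- The element of order 10. -/
noncomputable def S : Gr := ev Lg sW

/-- The involution. -/
noncomputable def Z : Gr := ev Lg zW

/-- The other involution. -/
noncomputable def Z2 : Gr := ev Lg z2W

/-- The short element of order 5. -/
noncomputable def T : Gr := ev Lg tW

/-- The conjugator to it. -/
noncomputable def W : Gr := ev Lg gW

theorem ev_giW : ev Lg giW = W⁻¹ := by
  have h := (eqW (lapp lg lgi) lnil).mp g_inv
  rw [ev_append, ev_nil] at h
  exact (inv_eq_of_mul_eq_one_right h).symm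

theorem T_W : T * W = W * (S * S) := by
  have h := (eqW (lapp lt lg) (lapp lg (lapp ls ls))).mp g_conj
  rwa [ev_append, ev_append, ev_append] at h

theorem ev_zgW : ev Lg zgW = W * Z * W⁻¹ := by
  rw [← (eqW (lapp lg (lapp lz lgi)) lzg).mp z_g, ev_append, ev_append, ev_giW, mul_assoc]
  rfl

theorem ev_z2gW : ev Lg z2gW = W * Z2 * W⁻¹ := by
  rw [← (eqW (lapp lg (lapp lz2 lgi)) lz2g).mp z2_g, ev_append, ev_append, ev_giW, mul_assoc]
  rfl

theorem U_pow : U ^ 11 = 1 := by
  have h := (cond_false_eq_true.mp u_ok).1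
  rwa [eqW (lrep lu 11) lnil, ev_rep, ev_nil] at h

theorem orderOf_U : orderOf U = 11 := by
  have : Fact (Nat.Prime 11) := ⟨by norm_num⟩
  refine orderOf_eq_prime U_pow fun h1 => ?_
  have h := (cond_false_eq_true.mp u_ok).2
  rw [(eqW lu lnil).mpr (by rw [ev_nil]; exact h1)] at h
  exact Bool.noConfusion h

theorem U_S : U * S = S * U ^ 2 := by
  have h := (eqW (lapp lu ls) (lapp ls (lrep lu 2))).mp s_ok
  rwa [ev_append, ev_append, ev_rep] at h

theorem U_pow_S : ∀ m, U ^ m * S = S * U ^ (2 * m) := by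
  intro m
  induction m with
  | zero => simp
  | succ m ih =>
    rw [pow_succ, mul_assoc, U_S, ← mul_assoc, ih, mul_assoc, ← pow_add]
    ring_nf

theorem mem_cent_U {x : Gr} (hx : x * U = U * x) : ∃ i, x = U ^ i := by
  have hq : im ρ x (SU.B 0) < 122760 := im_lt _ (VU.base_lt (by decide))
  have hB : ∀ i < 4, SU.B i = im ρ (U ^ i) (SU.B 0) := fun i hi => by
    rw [Nat.eq_of_beq_eq_true (of_allBelow baseU i hi), ← im_ev matches_ρ (lrep lu i)
      (VU.base_lt (by decide)), ev_rep]
    rfl
  have hc : ∀ i : Nat, U ^ i * x = x * U ^ i := fun i =>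
    ((show Commute U x from hx.symm).pow_left i).eq
  have himg : ∀ i < SU.k, followF (tget Top.Tb) (im ρ x (SU.B 0)) (rep i uW) =
      im ρ x (SU.B i) := fun i hi => by
    rw [followF_eq, ← im_ev matches_ρ (lrep lu i) hq, ev_rep, ← im_mul]
    show im ρ (x * U ^ i) _ = _
    rw [← hc, im_mul, ← hB i hi]
  obtain ⟨w, hl, he, hp⟩ := VU.of_siftAll himg (centU_all _ hq)
  rw [(VU.eqB_iff (by decide) (lapp hl lu) (lapp lu hl)).mpr
    (by rw [ev_append, ev_append, he]; exact hx), cond_true] at hp
  cases hh : allBelow 4 11 fun i => cond (Nat.beq (im ρ x (SU.B 0))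
      (followF (tget Top.Tb) (SU.B 0) (rep i uW))) false true
  · by_contra hne
    rw [not_exists] at hne
    have : allBelow 4 11 (fun i => cond (Nat.beq (im ρ x (SU.B 0))
        (followF (tget Top.Tb) (SU.B 0) (rep i uW))) false true) = true := by
      refine allBelow_of (by norm_num) fun i _ => ?_
      cases hb : Nat.beq (im ρ x (SU.B 0)) (followF (tget Top.Tb) (SU.B 0) (rep i uW))
      · rfl
      · exfalso
        have e := Nat.eq_of_beq_eq_true hb
        rw [followF_eq] at e
        rw [← im_ev matches_ρ (lrep lu i) (VU.base_lt (by decide)), ev_rep] at e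
        refine hne i (VU.ext fun j hj => ?_)
        rw [hB j hj, ← im_mul, hc, im_mul, e]
        rw [← im_mul, ← im_mul, pow_mul_comm U j i]
        rfl
    rw [this] at hh
    exact Bool.noConfusion hh
  · rw [hh, cond_true] at hp
    exact Bool.noConfusion hp

theorem sylow_conj (φ : MulAut Gr) : ∃ x : Gr, ∃ k : Nat, x * φ U * x⁻¹ = U ^ k := by
  have := card_ON.1
  have : Fact (Nat.Prime 11) := ⟨by norm_num⟩
  have hc : ∀ V : Gr, orderOf V = 11 →
      Nat.card (Subgroup.zpowers V) = 11 ^ (Nat.card Gr).factorization 11 := by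
    intro V hV
    rw [Nat.card_zpowers, hV, card_ON.2]
    have : (460815505920 : Nat).factorization 11 = 1 := by
      rw [Nat.factorization_def _ (by norm_num), show (460815505920 : Nat) = 11 * 41892318720 from
        by norm_num, padicValNat.mul (by norm_num) (by norm_num), padicValNat.self (by norm_num),
        padicValNat.eq_zero_of_not_dvd (by norm_num)]
    rw [this, pow_one]
  have h2 : orderOf (φ U) = 11 := by rw [MulEquiv.orderOf_eq, orderOf_U]
  obtain ⟨x, hx⟩ := MulAction.exists_smul_eq Gr (Sylow.ofCard _ (hc _ h2))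
    (Sylow.ofCard _ (hc _ orderOf_U))
  have hm : x * φ U * x⁻¹ ∈ Subgroup.zpowers U := by
    have h1 : x * φ U * x⁻¹ ∈ ((x • Sylow.ofCard _ (hc _ h2) : Sylow 11 Gr) : Subgroup Gr) := by
      rw [Sylow.coe_subgroup_smul]
      exact ⟨φ U, Subgroup.mem_zpowers _, rfl⟩
    rw [hx] at h1
    exact h1
  obtain ⟨k, hk⟩ := Submonoid.mem_powers_iff _ _ |>.mp
    ((isOfFinOrder_of_finite U).mem_powers_iff_mem_zpowers.mpr hm)
  exact ⟨x, k, hk.symm⟩

theorem conj_S_pow : ∀ j m : Nat, S ^ j * U ^ m * (S ^ j)⁻¹ = U ^ (6 ^ j * m) := by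
  have h1 : ∀ m, S * U ^ m * S⁻¹ = U ^ (6 * m) := by
    intro m
    rw [mul_inv_eq_iff_eq_mul, U_pow_S, ← pow_mod_orderOf U (2 * (6 * m)), orderOf_U,
      show 2 * (6 * m) % 11 = m % 11 by omega, ← orderOf_U, pow_mod_orderOf]
  intro j
  induction j with
  | zero => intro m; simp
  | succ j ih =>
    intro m
    rw [pow_succ, mul_inv_rev, show S ^ j * S * U ^ m * (S⁻¹ * (S ^ j)⁻¹) =
      S ^ j * (S * U ^ m * S⁻¹) * (S ^ j)⁻¹ by group, h1, ih, pow_succ, mul_assoc]

theorem exists_inv : ∀ k : Fin 11, k ≠ 0 → ∃ j : Fin 10, 6 ^ (j : Nat) * (k : Nat) % 11 = 1 := by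
  decide

/-- An automorphism composed with an inner one fixes `U` and `S`. -/
theorem exists_fix (φ : MulAut Gr) :
    ∃ x : Gr, (MulAut.conj x * φ) U = U ∧ (MulAut.conj x * φ) S = S := by
  obtain ⟨x, k, hk⟩ := sylow_conj φ
  have hk0 : k % 11 ≠ 0 := by
    intro h0
    rw [← pow_mod_orderOf, orderOf_U, h0, pow_zero, conj_eq_one_iff] at hk
    have := orderOf_U
    rw [φ.injective (hk.trans (map_one φ).symm), orderOf_one] at this
    exact absurd this (by norm_num)
  obtain ⟨j, hj⟩ := exists_inv ⟨k % 11, Nat.mod_lt _ (by norm_num)⟩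
    (fun h => hk0 (congrArg Fin.val h))
  have hU : (MulAut.conj (S ^ (j : Nat) * x) * φ) U = U := by
    simp only [MulAut.mul_apply, MulAut.conj_apply]
    rw [show S ^ (j : Nat) * x * φ U * (S ^ (j : Nat) * x)⁻¹ =
      S ^ (j : Nat) * (x * φ U * x⁻¹) * (S ^ (j : Nat))⁻¹ by group, hk, conj_S_pow,
      ← pow_mod_orderOf, orderOf_U]
    have : 6 ^ (j : Nat) * k % 11 = 1 := by rw [Nat.mul_mod, Nat.mod_mod] at hj; rw [Nat.mul_mod, hj]
    rw [this, pow_one]
  generalize S ^ (j : Nat) * x = y at hU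
  set ψ := MulAut.conj y * φ with hψ
  have h2 : U * ψ S = ψ S * U ^ 2 := by
    conv_lhs => rw [← hU]
    rw [← map_mul, U_S, map_mul, map_pow, hU]
  obtain ⟨i, hi⟩ := mem_cent_U (x := ψ S * S⁻¹) (by
    rw [← mul_assoc U, h2, mul_assoc, mul_assoc]
    congr 1
    rw [eq_mul_inv_iff_mul_eq, mul_assoc, U_S, inv_mul_cancel_left])
  rw [mul_inv_eq_iff_eq_mul] at hi
  refine ⟨U ^ (9 * i) * y, ?_, ?_⟩
  all_goals rw [map_mul, mul_assoc (MulAut.conj (U ^ (9 * i))), ← hψ, MulAut.mul_apply,
    MulAut.conj_apply]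
  · rw [hU, ((Commute.refl U).pow_left (9 * i)).eq, mul_inv_cancel_right]
  · rw [hi, mul_inv_eq_iff_eq_mul, ← mul_assoc, ← pow_add, U_pow_S]
    congr 1
    rw [← pow_mod_orderOf U (2 * (9 * i + i)), ← pow_mod_orderOf U (9 * i), orderOf_U,
      show 2 * (9 * i + i) % 11 = 9 * i % 11 from by omega]

/-- The test as a property of the element. -/
def Test (g : Gr) : Prop := (U * g) ^ 19 = 1

theorem tests_iff {w : List Nat} (hw : ∀ l ∈ w, l < (Lg).length) :
    tests w = true ↔ Test (W⁻¹ * ev Lg w * W) := by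
  rw [tests, eqW (lrep (lapp lu (lapp lgi (lapp hw lg))) 19) lnil, ev_rep, ev_append, ev_append,
    ev_append, ev_nil, ev_giW, mul_assoc W⁻¹]
  rfl

theorem Z_test : Test Z := by
  have h := (tests_iff lzg).mp z_tests
  rwa [ev_zgW, show W⁻¹ * (W * Z * W⁻¹) * W = Z by group] at h

theorem Z_comm : Z * (S * S) = (S * S) * Z := by
  have h := (eqW (lapp lz (lapp ls ls)) (lapp (lapp ls ls) lz)).mp z_comm
  rwa [ev_append, ev_append, ev_append] at h

theorem Z_sq : Z * Z = 1 := by
  have h := (eqW (lapp lz lz) lnil).mp z_sq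
  rwa [ev_append, ev_nil] at h

theorem two_images {z : Gr} (hz : z * (S * S) = (S * S) * z) (h2 : z * z = 1) (ht : Test z) :
    z = Z ∨ z = Z2 := by
  obtain ⟨g, hg⟩ : ∃ g, g = W * z * W⁻¹ := ⟨_, rfl⟩
  have hc : g * T = T * g := by
    rw [show T = W * (S * S) * W⁻¹ by rw [← T_W, mul_inv_cancel_right], hg,
      show W * z * W⁻¹ * (W * (S * S) * W⁻¹) = W * (z * (S * S)) * W⁻¹ by group, hz]
    group
  have hg2 : g * g = 1 := by
    rw [hg, show W * z * W⁻¹ * (W * z * W⁻¹) = W * (z * z) * W⁻¹ by group, h2]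
    group
  have hz' : z = W⁻¹ * g * W := by rw [hg]; group
  have hq : im ρ g (ST.B 0) < 122760 := im_lt _ (VT.base_lt (by decide))
  have himg : ∀ i < ST.k, followF (tget Top.Tb) (im ρ g (ST.B 0)) (rep i tW) =
      im ρ g (ST.B i) := fun i hi => by
    rw [followF_eq, ← im_ev matches_ρ (lrep lt i) hq, ev_rep, ← im_mul,
      ← (show Commute (ev Lg tW) g from hc.symm).pow_left i |>.eq, im_mul,
      Nat.eq_of_beq_eq_true (of_allBelow baseT i hi), ← im_ev matches_ρ (lrep lt i)
        (VT.base_lt (by decide)), ev_rep]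
  obtain ⟨w, hl, he, hp⟩ := VT.of_siftAll himg (centT_all _ hq)
  rw [(eqW (lapp hl lt) (lapp lt hl)).mpr (by rw [ev_append, ev_append, he]; exact hc),
    cond_true, (eqW (lapp hl hl) lnil).mpr (by rw [ev_append, he, ev_nil]; exact hg2),
    cond_true] at hp
  rw [hz']
  cases ha : ST.eqB Top.Tb w zgW
  · cases hb : ST.eqB Top.Tb w z2gW
    · rw [ha, cond_false, hb, cond_false, (tests_iff hl).mpr (by rw [he, ← hz']; exact ht),
        cond_true] at hp
      exact Bool.noConfusion hp
    · right
      rw [← he, (eqW hl lz2g).mp hb, ev_z2gW]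
      group
  · left
    rw [← he, (eqW hl lzg).mp ha, ev_zgW]
    group

theorem image_Z (ψ : MulAut Gr) (hU : ψ U = U) (hS : ψ S = S) : ψ Z = Z ∨ ψ Z = Z2 := by
  refine two_images ?_ ?_ ?_
  · simpa [hS] using congrArg ψ Z_comm
  · simpa using congrArg ψ Z_sq
  · simpa [Test, hU] using congrArg ψ Z_test

theorem gen_mem (l : Nat) (hl : l < 7) : fl Lg l ∈ Subgroup.closure ({U, Z} : Set Gr) := by
  have h := cond_false_eq_true.mp (of_allBelow gen_ok l hl)
  have e := (eqW (lt8 h.1 (List.mem_singleton_self _))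
    (fun x hx => by rw [List.mem_singleton.mp hx, len_Lg]; omega)).mp h.2
  rw [ev_cons, ev_nil, mul_one] at e
  rw [← e]
  generalize genA.getD l [] = a
  induction a with
  | nil => rw [show sylW [] = [] from rfl, ev_nil]; exact one_mem _
  | cons m a ih =>
    rw [show sylW (m :: a) = (rep m uW ++ zW) ++ sylW a from rfl, ev_append, ev_append, ev_rep]
    exact mul_mem (mul_mem (pow_mem (Subgroup.subset_closure (by simp [U])) m)
      (Subgroup.subset_closure (by simp [Z]))) ih

theorem closure_UZ : Subgroup.closure ({U, Z} : Set Gr) = ⊤ := by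
  rw [eq_top_iff, ← closure_Lg, Subgroup.closure_le]
  intro y hy
  obtain ⟨l, hl, rfl⟩ := List.getElem_of_mem hy
  rw [SetLike.mem_coe, show (Lg)[l] = fl Lg l from (List.getD_eq_getElem _ _ hl).symm]
  rcases Nat.lt_or_ge l 7 with h | h
  · exact gen_mem l h
  · obtain rfl : l = iv 6 := by
      rw [len_Lg] at hl
      rw [show iv 6 = 7 by decide +kernel]
      omega
    rw [inv_Lg]
    exact inv_mem (gen_mem 6 (by norm_num))

theorem ext_UZ {α β : MulAut Gr} (hu : α U = β U) (hz : α Z = β Z) : α = β := by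
  refine MulEquiv.ext fun y => ?_
  have hy : y ∈ Subgroup.closure ({U, Z} : Set Gr) := closure_UZ ▸ Subgroup.mem_top y
  induction hy using Subgroup.closure_induction with
  | mem y hy => rcases hy with rfl | rfl <;> assumption
  | one => simp
  | mul a b _ _ ha hb => rw [map_mul, map_mul, ha, hb]
  | inv a _ ha => rw [map_inv, map_inv, ha]

/-- The images of the letters under the outer automorphism. -/
noncomputable def img : List Gr := imgW.map (ev Lg)

theorem fl_img (l : Nat) : fl img l = ev Lg (imgW.getD l []) := by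
  rcases Nat.lt_or_ge l imgW.length with h | h
  · rw [fl, List.getD_eq_getElem _ _ (by simpa [img] using h), List.getD_eq_getElem _ _ h]
    simp [img]
  · rw [fl_of_le _ (by simpa [img] using h), List.getD_eq_default _ _ h, ev_nil]

theorem limg (l : Nat) : ∀ x ∈ imgW.getD l [], x < (Lg).length := by
  rcases Nat.lt_or_ge l imgW.length with h | h
  · rw [List.getD_eq_getElem _ _ h]
    exact lt8 img_letters (List.getElem_mem h)
  · rw [List.getD_eq_default _ _ h]
    simp

theorem ev_subW : ∀ w : List Nat, ev img w = ev Lg (subW w) := by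
  intro w
  induction w with
  | nil => simp [subW]
  | cons l w ih =>
    rw [show subW (l :: w) = imgW.getD l [] ++ subW w from rfl, ev_cons, ev_append, ih, fl_img]

theorem lsubW : ∀ w : List Nat, ∀ x ∈ subW w, x < (Lg).length := by
  intro w
  induction w with
  | nil => intro x hx; simp [subW] at hx
  | cons l w ih => exact lapp (limg l) ih

theorem img_inv (x : Nat) : fl img (iv x) = (fl img x)⁻¹ := by
  rcases Nat.lt_or_ge x 8 with h | h
  · have e := (eqW (lapp (limg (iv x)) (limg x)) lnil).mp (of_allBelow img_iv x h)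
    rw [ev_append, ev_nil] at e
    rw [fl_img, fl_img]
    exact eq_inv_of_mul_eq_one_left e
  · have hx : iv x = x := by
      have h6 : Nat.beq x 6 = false := Bool.eq_false_iff.mpr fun h => by
        have := Nat.eq_of_beq_eq_true h; omega
      have h7 : Nat.beq x 7 = false := Bool.eq_false_iff.mpr fun h => by
        have := Nat.eq_of_beq_eq_true h; omega
      simp [iv, h6, h7]
    rw [hx, fl_of_le _ (by rw [img, List.length_map, show imgW.length = 8 from rfl]; exact h),
      inv_one]

theorem img_rels : ∀ w ∈ rels, ev img w = 1 := by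
  intro w hw
  rw [ev_subW, (eqW (lsubW w) lnil).mp (allList_iff.mp sub_rels w hw), ev_nil]

/-- The outer automorphism, as a homomorphism. -/
noncomputable def twist : Gr →* Gr := hom img_inv img_rels

theorem twist_ev : ∀ w : List Nat, (∀ l ∈ w, l < (Lg).length) →
    twist (ev Lg w) = ev Lg (subW w) := by
  intro w
  induction w with
  | nil => intro _; simp [subW]
  | cons l w ih =>
    intro hl
    rw [show subW (l :: w) = imgW.getD l [] ++ subW w from rfl, ev_cons, ev_append, map_mul,
      ih (fun y hy => hl y (by simp [hy])), ← fl_img]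
    congr 1
    exact hom_fl img_inv img_rels (by rw [← len_Lg]; exact hl l (by simp))

theorem twist_U : twist U = U := by
  rw [U, twist_ev _ lu, (eqW (lsubW _) lu).mp sub_u]

theorem twist_Z : twist Z = Z2 := by
  rw [Z, Z2, twist_ev _ lz, (eqW (lsubW _) lz2).mp sub_z]

theorem twist_bijective : Function.Bijective twist := by
  have := card_ON.1
  have := isSimple
  have hinj : Function.Injective twist := by
    rcases isSimple.eq_bot_or_eq_top_of_normal twist.ker inferInstance with h | h
    · exact (MonoidHom.ker_eq_bot_iff twist).mp h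
    · exfalso
      have h0 : twist U = 1 := MonoidHom.mem_ker.mp (h ▸ Subgroup.mem_top _)
      rw [twist_U] at h0
      have := orderOf_U
      rw [h0, orderOf_one] at this
      exact absurd this (by norm_num)
  exact ⟨hinj, Finite.surjective_of_injective hinj⟩

/-- The outer automorphism. -/
noncomputable def outer : MulAut Gr := MulEquiv.ofBijective twist twist_bijective

theorem outer_U : outer U = U := twist_U
theorem outer_Z : outer Z = Z2 := twist_Z

theorem outer_not_inner : outer ∉ Cfsg.Inn Gr := by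
  rintro ⟨y, hy⟩
  have h : ∀ g, y * g * y⁻¹ = outer g := fun g => DFunLike.congr_fun hy g
  have hU := h U
  rw [outer_U, mul_inv_eq_iff_eq_mul] at hU
  obtain ⟨i, rfl⟩ := mem_cent_U hU
  have hZ := h Z
  rw [outer_Z, mul_inv_eq_iff_eq_mul, ← pow_mod_orderOf, orderOf_U] at hZ
  have hc := of_allBelow uz_ne (i % 11) (Nat.mod_lt _ (by norm_num))
  rw [(eqW (lapp (lrep lu _) lz) (lapp lz2 (lrep lu _))).mpr
    (by rw [ev_append, ev_append, ev_rep]; exact hZ), cond_true] at hc
  exact Bool.noConfusion hc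

theorem two_classes (φ : MulAut Gr) : φ ∈ Cfsg.Inn Gr ∨ φ * outer⁻¹ ∈ Cfsg.Inn Gr := by
  obtain ⟨x, hU, hS⟩ := exists_fix φ
  rcases image_Z _ hU hS with hZ | hZ
  · left
    have e : MulAut.conj x * φ = 1 := ext_UZ hU hZ
    exact ⟨x⁻¹, by rw [map_inv]; exact inv_eq_of_mul_eq_one_right e⟩
  · right
    have e : MulAut.conj x * φ = outer :=
      ext_UZ (hU.trans outer_U.symm) (hZ.trans outer_Z.symm)
    refine ⟨x⁻¹, ?_⟩
    rw [← e, map_inv]
    simp [mul_inv_rev]

theorem card_out : Nat.card (Cfsg.Out Gr) = 2 := by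
  show (Cfsg.Inn Gr).index = 2
  rw [Subgroup.index_eq_two_iff]
  refine ⟨outer, fun b => ?_⟩
  by_cases hb : b ∈ Cfsg.Inn Gr
  · exact Or.inr ⟨hb, fun h => outer_not_inner (by simpa using mul_mem (InvMemClass.inv_mem hb) h)⟩
  · refine Or.inl ⟨?_, hb⟩
    rcases two_classes (b * outer) with h | h
    · exact h
    · exact absurd (by simpa using h) hb

end CfsgLib.Coset.ON.Out
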